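import Mathlib
import Groth.Agent.Lib.Helper4.DimIneq2
import Groth.Agent.Lib.Lead.FLF5
import Groth.Agent.Lib.Helper7.Spz.PullGen

set_option linter.style.haveILetI false
set_option linter.unusedVariables false
set_option linter.unusedSectionVars false
set_option autoImplicit false
set_option backward.isDefEq.respectTransparency.types false
set_option synthInstance.maxHeartbeats 400000
set_option maxHeartbeats 1600000

universe u

/-! helper7: degree formula for finite flat morphisms: the sum over a fibre of multiplicity times residue degree equals the rank (chart computation via ramification and inertia) -/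

open CategoryTheory CategoryTheory.Limits AlgebraicGeometry IsLocalRing TopologicalSpace Opposite
open Groth.Agent.Lib.Helper4.NormFibre2 Groth.Agent.Lib.Helper4.DimIneq2
open Groth.Agent.Helper7.Spz Groth.Agent.Helper7.KL

namespace Groth.Agent.Helper7.FinDeg

variable {X Y : Scheme.{u}} (f : X ⟶ Y)

/-- the multiplicity of the fibre of `f` at the point `x` -/
noncomputable def ram (x : X) : ℕ :=
  (Module.length (X.presheaf.stalk x) (X.presheaf.stalk x ⧸
    Ideal.map (f.stalkMap x).hom (maximalIdeal (Y.presheaf.stalk (f x))))).toNat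

section Chart

variable {V : Y.Opens} (hV : IsAffineOpen V) {U : X.Opens} (hU : IsAffineOpen U)
  (e : U ≤ f ⁻¹ᵁ V) (x : X) (hx : x ∈ U)

theorem germ_appLE (a : Γ(Y, V)) :
    (X.presheaf.germ U x hx).hom ((f.appLE V U e).hom a) =
      (f.stalkMap x).hom ((Y.presheaf.germ V (f x) (e hx)).hom a) := by
  have h1 := Scheme.Hom.germ_stalkMap_apply f V x (e hx) a
  refine Eq.trans ?_ h1.symm
  rw [Scheme.Hom.appLE]
  simp only [CommRingCat.hom_comp, RingHom.comp_apply]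
  exact TopCat.Presheaf.germ_res_apply X.presheaf (homOfLE e) x hx _

include hV hU in
theorem ramificationIdx_chart [Algebra Γ(Y, V) Γ(X, U)]
    (halg : algebraMap Γ(Y, V) Γ(X, U) = (f.appLE V U e).hom) :
    (hU.primeIdealOf ⟨x, hx⟩).asIdeal.ramificationIdx Γ(Y, V) = ram f x := by
  haveI hlo := liesOver_chart f hV hU e x hx halg
  rw [Ideal.ramificationIdx_eq (hV.primeIdealOf ⟨f x, e hx⟩).asIdeal
    (hU.primeIdealOf ⟨x, hx⟩).asIdeal]
  unfold ram
  congr 1
  letI : Algebra Γ(X, U) (X.presheaf.stalk x) := (X.presheaf.germ U x hx).hom.toAlgebra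
  haveI : IsLocalization.AtPrime (X.presheaf.stalk x) (hU.primeIdealOf ⟨x, hx⟩).asIdeal :=
    hU.isLocalization_stalk ⟨x, hx⟩
  letI : Algebra Γ(Y, V) (Y.presheaf.stalk (f x)) :=
    (Y.presheaf.germ V (f x) (e hx)).hom.toAlgebra
  haveI : IsLocalization.AtPrime (Y.presheaf.stalk (f x))
      (hV.primeIdealOf ⟨f x, e hx⟩).asIdeal := hV.isLocalization_stalk ⟨f x, e hx⟩
  let σ : Localization.AtPrime (hU.primeIdealOf ⟨x, hx⟩).asIdeal ≃ₐ[Γ(X, U)]
      X.presheaf.stalk x :=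
    IsLocalization.algEquiv (hU.primeIdealOf ⟨x, hx⟩).asIdeal.primeCompl _ _
  let σr : Localization.AtPrime (hU.primeIdealOf ⟨x, hx⟩).asIdeal →+* X.presheaf.stalk x :=
    σ.toRingEquiv.toRingHom
  have hσr : ∀ t, σr t = σ t := fun _ => rfl
  have hcomp : σr.comp
      (algebraMap Γ(Y, V) (Localization.AtPrime (hU.primeIdealOf ⟨x, hx⟩).asIdeal)) =
      (f.stalkMap x).hom.comp (algebraMap Γ(Y, V) (Y.presheaf.stalk (f x))) := by
    ext a
    rw [RingHom.comp_apply, RingHom.comp_apply,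
      IsScalarTower.algebraMap_apply Γ(Y, V) Γ(X, U) (Localization.AtPrime _), hσr,
      σ.commutes, halg]
    exact germ_appLE f e x hx a
  have hmap : Ideal.map σr (Ideal.map
      (algebraMap Γ(Y, V) (Localization.AtPrime (hU.primeIdealOf ⟨x, hx⟩).asIdeal))
      (hV.primeIdealOf ⟨f x, e hx⟩).asIdeal) =
      Ideal.map (f.stalkMap x).hom (maximalIdeal (Y.presheaf.stalk (f x))) := by
    rw [Ideal.map_map, hcomp, ← Ideal.map_map,
      IsLocalization.AtPrime.map_eq_maximalIdeal (hV.primeIdealOf ⟨f x, e hx⟩).asIdeal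
        (Y.presheaf.stalk (f x))]
  rw [← hmap]
  refine (length_quot_map_of_surj σr σ.surjective _ ?_).symm
  have h0 : RingHom.ker σr = ⊥ := (RingHom.injective_iff_ker_eq_bot σr).1 σ.injective
  rw [h0]
  exact bot_le

include hV hU in
theorem inertiaDeg_chart [Algebra Γ(Y, V) Γ(X, U)]
    (halg : algebraMap Γ(Y, V) Γ(X, U) = (f.appLE V U e).hom) :
    (hU.primeIdealOf ⟨x, hx⟩).asIdeal.inertiaDeg Γ(Y, V) = f.residueDegree x := by
  haveI hlo := liesOver_chart f hV hU e x hx halg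
  have hker : ∀ a ∈ (hV.primeIdealOf ⟨f x, e hx⟩).asIdeal, rho (f x) (e hx) a = 0 := by
    intro a ha
    rw [← ker_rho hV (f x) (e hx)] at ha
    exact ha
  have hker' : ∀ a ∈ (hU.primeIdealOf ⟨x, hx⟩).asIdeal, rho x hx a = 0 := by
    intro a ha
    rw [← ker_rho hU x hx] at ha
    exact ha
  letI algK : Algebra (Y.residueField (f x)) (X.residueField x) :=
    (f.residueFieldMap x).hom.toAlgebra
  letI algD : Algebra (Γ(Y, V) ⧸ (hV.primeIdealOf ⟨f x, e hx⟩).asIdeal)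
      (Y.residueField (f x)) :=
    (Ideal.Quotient.lift _ (rho (f x) (e hx)) hker).toAlgebra
  letI algD' : Algebra (Γ(X, U) ⧸ (hU.primeIdealOf ⟨x, hx⟩).asIdeal) (X.residueField x) :=
    (Ideal.Quotient.lift _ (rho x hx) hker').toAlgebra
  letI algRK : Algebra Γ(Y, V) (Y.residueField (f x)) := (rho (f x) (e hx)).toAlgebra
  letI algSL : Algebra Γ(X, U) (X.residueField x) := (rho x hx).toAlgebra
  letI algRL : Algebra Γ(Y, V) (X.residueField x) :=
    ((rho x hx).comp (algebraMap Γ(Y, V) Γ(X, U))).toAlgebra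
  haveI : IsScalarTower Γ(Y, V) (Γ(Y, V) ⧸ (hV.primeIdealOf ⟨f x, e hx⟩).asIdeal)
      (Y.residueField (f x)) := IsScalarTower.of_algebraMap_eq (fun _ => rfl)
  haveI : IsScalarTower Γ(X, U) (Γ(X, U) ⧸ (hU.primeIdealOf ⟨x, hx⟩).asIdeal)
      (X.residueField x) := IsScalarTower.of_algebraMap_eq (fun _ => rfl)
  haveI : IsScalarTower Γ(Y, V) Γ(X, U) (X.residueField x) :=
    IsScalarTower.of_algebraMap_eq (fun _ => rfl)
  haveI : IsScalarTower Γ(Y, V) (Y.residueField (f x)) (X.residueField x) := by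
    apply IsScalarTower.of_algebraMap_eq
    intro a
    have h1 := congrArg (fun φ => φ a) (rho_comp_appLE f e x hx)
    simp only [RingHom.comp_apply] at h1
    change rho x hx (algebraMap Γ(Y, V) Γ(X, U) a) = _
    rw [halg, h1]
    rfl
  haveI := isFractionRing_quotient hV (f x) (e hx) (fun _ => rfl)
  haveI := isFractionRing_quotient hU x hx (fun _ => rfl)
  exact Ideal.inertiaDeg_eq_of_isFractionRing (hV.primeIdealOf ⟨f x, e hx⟩).asIdeal
    (hU.primeIdealOf ⟨x, hx⟩).asIdeal (Y.residueField (f x)) (X.residueField x)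

end Chart

section Sum

theorem primeIdealOf_injective {U : X.Opens} (hU : IsAffineOpen U) :
    Function.Injective hU.primeIdealOf := by
  intro a b h
  apply Subtype.ext
  rw [← hU.fromSpec_primeIdealOf a, ← hU.fromSpec_primeIdealOf b, h]

theorem exists_primeIdealOf_eq {U : X.Opens} (hU : IsAffineOpen U) (Q : PrimeSpectrum Γ(X, U)) :
    ∃ (x : X) (hx : x ∈ U), hU.primeIdealOf ⟨x, hx⟩ = Q := by
  have hx : hU.fromSpec Q ∈ U := by
    have h1 : hU.fromSpec Q ∈ Set.range hU.fromSpec := ⟨Q, rfl⟩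
    rw [hU.range_fromSpec] at h1
    exact h1
  refine ⟨hU.fromSpec Q, hx, ?_⟩
  apply hU.fromSpec.isOpenEmbedding.injective
  exact hU.fromSpec_primeIdealOf ⟨_, hx⟩

theorem liesOver_chart' {V : Y.Opens} (hV : IsAffineOpen V) {U : X.Opens} (hU : IsAffineOpen U)
    (e : U ≤ f ⁻¹ᵁ V) (x : X) (hx : x ∈ U) (y : Y) (hy : y ∈ V) (h : f x = y)
    [Algebra Γ(Y, V) Γ(X, U)] (halg : algebraMap Γ(Y, V) Γ(X, U) = (f.appLE V U e).hom) :
    (hU.primeIdealOf ⟨x, hx⟩).asIdeal.LiesOver (hV.primeIdealOf ⟨y, hy⟩).asIdeal := by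
  subst h
  exact liesOver_chart f hV hU e x hx halg

/-- the degree formula: the sum over the fibre of multiplicity times residue degree is the
rank of a finite flat morphism -/
theorem sum_ram_residueDegree [IsFinite f] [Flat f] (y : Y) :
    ∑ᶠ x : ↥(f ⁻¹' {y}), ((ram f x.1 : ℤ) * (f.residueDegree x.1 : ℤ)) = (f.finrank y : ℤ) := by
  obtain ⟨V, hV, hy⟩ := exists_affine y
  have hU : IsAffineOpen (f ⁻¹ᵁ V) := hV.preimage f
  letI alg : Algebra Γ(Y, V) Γ(X, f ⁻¹ᵁ V) := (f.appLE V (f ⁻¹ᵁ V) le_rfl).hom.toAlgebra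
  have halg : algebraMap Γ(Y, V) Γ(X, f ⁻¹ᵁ V) = (f.appLE V (f ⁻¹ᵁ V) le_rfl).hom := rfl
  haveI hfin : Module.Finite Γ(Y, V) Γ(X, f ⁻¹ᵁ V) := by
    have h1 := f.finite_app V hV
    rw [Scheme.Hom.app_eq_appLE] at h1
    exact h1
  haveI hflat : Module.Flat Γ(Y, V) Γ(X, f ⁻¹ᵁ V) := f.flat_appLE hV hU le_rfl
  have hrank : f.finrank y = Module.rankAtStalk (R := Γ(Y, V)) Γ(X, f ⁻¹ᵁ V)
      (hV.primeIdealOf ⟨y, hy⟩) := by
    have h1 := Groth.Agent.Lead.FLF.finrank_fromSpec f hV (hV.primeIdealOf ⟨y, hy⟩)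
    rw [hV.fromSpec_primeIdealOf ⟨y, hy⟩, Scheme.Hom.app_eq_appLE] at h1
    exact h1
  letI : Fintype ((hV.primeIdealOf ⟨y, hy⟩).asIdeal.primesOver Γ(X, f ⁻¹ᵁ V)) :=
    (Algebra.QuasiFinite.finite_primesOver (S := Γ(X, f ⁻¹ᵁ V))
      (hV.primeIdealOf ⟨y, hy⟩).asIdeal).fintype
  have hsum := Ideal.sum_ramification_inertia_eq_finrank_fiber
    (hV.primeIdealOf ⟨y, hy⟩).asIdeal Γ(X, f ⁻¹ᵁ V)
  have hsum' : (∑ q : (hV.primeIdealOf ⟨y, hy⟩).asIdeal.primesOver Γ(X, f ⁻¹ᵁ V),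
      q.1.ramificationIdx Γ(Y, V) * q.1.inertiaDeg Γ(Y, V)) = f.finrank y := by
    rw [hrank, hsum]
    exact (Module.rankAtStalk_eq (hV.primeIdealOf ⟨y, hy⟩)).symm
  have hxU : ∀ x : ↥(f ⁻¹' {y}), x.1 ∈ f ⁻¹ᵁ V := by
    intro x
    have h : f x.1 = y := x.2
    have h2 : f x.1 ∈ V := by rw [h]; exact hy
    exact h2
  let E : ↥(f ⁻¹' {y}) → (hV.primeIdealOf ⟨y, hy⟩).asIdeal.primesOver Γ(X, f ⁻¹ᵁ V) :=
    fun x => ⟨(hU.primeIdealOf ⟨x.1, hxU x⟩).asIdeal, (hU.primeIdealOf ⟨x.1, hxU x⟩).isPrime,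
      liesOver_chart' f hV hU le_rfl x.1 (hxU x) y hy x.2 halg⟩
  have hE : Function.Bijective E := by
    constructor
    · intro a b hab
      have h1 : (hU.primeIdealOf ⟨a.1, hxU a⟩).asIdeal = (hU.primeIdealOf ⟨b.1, hxU b⟩).asIdeal :=
        congrArg Subtype.val hab
      have h2 := primeIdealOf_injective hU (PrimeSpectrum.ext h1)
      have h3 : a.1 = b.1 := congrArg (fun z : ↥(f ⁻¹ᵁ V) => (z : X)) h2
      exact Subtype.ext h3
    · rintro ⟨Q, hQp, hQlo⟩
      obtain ⟨x, hx, hxQ⟩ := exists_primeIdealOf_eq hU ⟨Q, hQp⟩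
      have hQ' : (hU.primeIdealOf ⟨x, hx⟩).asIdeal = Q := congrArg PrimeSpectrum.asIdeal hxQ
      have h1 := liesOver_chart f hV hU le_rfl x hx halg
      have h2 : (hV.primeIdealOf ⟨f x, hx⟩).asIdeal = (hV.primeIdealOf ⟨y, hy⟩).asIdeal := by
        rw [h1.over, hQlo.over, hQ']
      have h3 := primeIdealOf_injective hV (PrimeSpectrum.ext h2)
      have hfx : f x = y := congrArg Subtype.val h3
      exact ⟨⟨x, hfx⟩, Subtype.ext hQ'⟩
  have hFG : ∀ x : ↥(f ⁻¹' {y}), ((ram f x.1 : ℤ) * (f.residueDegree x.1 : ℤ)) =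
      (((E x).1.ramificationIdx Γ(Y, V) * (E x).1.inertiaDeg Γ(Y, V) : ℕ) : ℤ) := by
    intro x
    have h1 := ramificationIdx_chart f hV hU le_rfl x.1 (hxU x) halg
    have h2 := inertiaDeg_chart f hV hU le_rfl x.1 (hxU x) halg
    rw [← h1, ← h2]
    push_cast
    rfl
  rw [finsum_eq_of_bijective
    (g := fun q : (hV.primeIdealOf ⟨y, hy⟩).asIdeal.primesOver Γ(X, f ⁻¹ᵁ V) =>
      (((q.1.ramificationIdx Γ(Y, V) * q.1.inertiaDeg Γ(Y, V) : ℕ)) : ℤ)) E hE hFG,
    finsum_eq_sum_of_fintype, ← Nat.cast_sum, hsum']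

end Sum

end Groth.Agent.Helper7.FinDeg
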