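import Mathlib
import Groth.Prelude.Def_Cyc
import Groth.Agent.Lib.Helper7.FinDeg.Chart
import Groth.Agent.Lib.Helper7.CycPull.Main
import Groth.Agent.Lib.Helper4.Aff2
import Groth.Agent.Lib.Helper4.FibDimComp1

set_option linter.style.haveILetI false
set_option linter.unusedVariables false
set_option linter.unusedSectionVars false
set_option autoImplicit false
set_option backward.isDefEq.respectTransparency.types false
set_option synthInstance.maxHeartbeats 400000
set_option maxHeartbeats 1600000

universe u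

/-! helper7: push-forward of the flat pull-back along a finite locally free morphism of constant degree d is multiplication by d -/

open CategoryTheory CategoryTheory.Limits AlgebraicGeometry IsLocalRing TopologicalSpace Opposite
open Groth.Agent.Helper7.Spz Groth.Agent.Helper7.KL Groth.Agent.Helper7.CycPull
open Groth.Agent.Lib.Helper4.FibDim1 Groth.Agent.Lib.Helper4.Aff2

namespace Groth.Agent.Helper7.FinDeg

/-- push-forward of the flat pull-back along a finite locally free morphism of degree `d` is
multiplication by `d` -/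
theorem map_pullFun (X Y : Scheme.{u}) (δX : X → ℤ) (δY : Y → ℤ) (f : X ⟶ Y) [IsFinite f]
    [Flat f] (d : ℕ) (hd : ∀ y : Y, f.finrank y = d) (hδ : Cyc.DeltaCompat f δX δY) :
    Cyc.HasRelDim f 0 ∧ ∀ (α : AlgebraicCycle Y ℤ),
      ∀ α' : AlgebraicCycle X ℤ, ⇑α' = Cyc.pullFun f δX δY 0 ⇑α →
        AlgebraicCycle.map f δX δY α' = d • α := by
  haveI : LocallyOfFiniteType f := inferInstance
  haveI : LocallyQuasiFinite f := inferInstance
  have htr : ∀ z : X, tr f z = 0 := fun z => tr_eq_zero_of_locallyQuasiFinite f z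
  have hrel : Cyc.HasRelDim f 0 :=
    (Groth.Agent.Lib.Helper4.FibDimComp1.hasRelDim_iff_tr f 0).2 (fun z _ => htr z)
  refine ⟨hrel, ?_⟩
  intro α α' hα'
  have hδx : ∀ x : X, δX x = δY (f x) := by
    intro x
    have h1 := delta_eq_of_deltaCompat f δX δY hδ x
    rw [htr x] at h1
    simpa using h1
  ext y
  have hrhs : (d • α) y = (d : ℤ) * α y := by
    rw [Function.locallyFinsuppWithin.coe_nsmul]
    simp
  rw [hrhs]
  change (∑ᶠ x ∈ f ⁻¹' {y}, α' x * ((AlgebraicCycle.mapCoeff f δX δY x : ℕ) : ℤ)) = _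
  rw [← finsum_set_coe_eq_finsum_mem]
  have hterm : ∀ x : ↥(f ⁻¹' {y}), α' x.1 * ((AlgebraicCycle.mapCoeff f δX δY x.1 : ℕ) : ℤ) =
      α y * ((ram f x.1 : ℤ) * (f.residueDegree x.1 : ℤ)) := by
    intro x
    have hfx : f x.1 = y := x.2
    have h1 : α' x.1 = α y * (ram f x.1 : ℤ) := by
      rw [hα', pullFun_apply, if_pos (by rw [hδx x.1]; ring)]
      show α (f x.1) * (ram f x.1 : ℤ) = _
      rw [hfx]
    have h2 : AlgebraicCycle.mapCoeff f δX δY x.1 = f.residueDegree x.1 := by
      unfold AlgebraicCycle.mapCoeff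
      rw [if_pos (hδx x.1)]
    rw [h1, h2]
    ring
  rw [finsum_congr hterm, ← mul_finsum, sum_ram_residueDegree f y, hd y]
  ring

end Groth.Agent.Helper7.FinDeg
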